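import Cfsg.Agent.H848.EP.Moved
import Cfsg.Agent.H892.EP.TM
import Cfsg.Agent.H396.CommTab2
import Cfsg.Agent.H519.Dl.WittTor
import Cfsg.Agent.H314.RatB.OPlus

/-!
# S4929 [TM-O]: `HasTM` for models of Witt frames of orthogonal type (helper848)

* `hasTM_C` : type `C_n`;
* `fix_line` : the condition on the last reflection, `V₀` a line.
-/

set_option autoImplicit false
set_option linter.unusedSectionVars false

namespace Cfsg.Agent.H848.EP

open Cfsg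
open CoxeterSystem Cfsg.Agent.ChevalleyStructure.CoxeterGeom Cfsg.Agent.Tits.Roots Cfsg.Agent.Tits.Core
open Cfsg.Agent.Nodes.Comb Cfsg.Agent.Nodes.Reps Cfsg.Agent.Nodes.WittRoot Cfsg.Agent.Nodes.BNOf
open Cfsg.Agent.Nodes Cfsg.Agent.Nodes.RGDLib Cfsg.Agent.Nodes.WittAll Cfsg.Agent.Nodes.WittU
open Cfsg.Agent.Nodes.WittRGD (Tor mem_Tor b_ne_zero mono_nn nn)
open Cfsg.Agent.TitsThree Cfsg.Agent.TitsThree.Siegel Cfsg.Agent.TitsThree.SiegelGen
  Cfsg.Agent.TitsThree.WittFrame Cfsg.Agent.TitsThree.WBridge Cfsg.Agent.TitsThree.WittWeyl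
  Cfsg.Agent.TitsThree.FrameCN
open Cfsg.Agent.Omega.EH3.Kf Cfsg.Agent.Omega.EH3.Kf.Lev
open Cfsg.Agent.H519.Dl.WittTor (dX dX_x dX_neg_x dX_pow)
open Cfsg.Agent.H892.EP (HasTM)
open Cfsg.Agent.H716.RGDAb (tor_comm_of eq_one_of_fix)

variable {F : Type*} [Field F] {V : Type*} [AddCommGroup V] [Module F V] {H : HForm F V} {n : ℕ}
  {Fr : Frame H (Fin n)} {G0 : Subgroup (V ≃ₗ[F] V)} {K : Type*} [Group K]

/-- an element of order `p` of the torus -/
theorem dvd_of_elt (φ : G0 →* K) (hker : ∀ g : G0, φ g = 1 → ∃ a : F, ∀ v, g.1 v = a • v) [Finite K] {p : ℕ}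
    (hp : p.Prime) (hp2 : p ≠ 2) {g : G0} (hg : g.1 ∈ Tor Fr G0) (hgp : g.1 ^ p = 1) {x : Fin n × Bool} {t : F}
    (htp : t ^ p = 1) (ht1 : t ≠ 1) (h1 : g.1 (Fr.b x) = t • Fr.b x)
    (h2 : g.1 (Fr.b (neg x)) = t⁻¹ • Fr.b (neg x)) : p ∣ Nat.card (((Tor Fr G0).subgroupOf G0).map φ) := by
  have : Fact p.Prime := ⟨hp⟩
  have ht0 : t ≠ 0 := by
    rintro rfl
    rw [zero_pow hp.ne_zero] at htp
    exact zero_ne_one htp
  let y : ↥(((Tor Fr G0).subgroupOf G0).map φ) := ⟨φ g, g, Subgroup.mem_subgroupOf.2 hg, rfl⟩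
  have hy : orderOf y = p := by
    refine orderOf_eq_prime ?_ ?_
    · apply Subtype.ext
      change φ g ^ p = 1
      rw [← map_pow]
      have : g ^ p = 1 := Subtype.ext hgp
      rw [this, map_one]
    · intro h
      obtain ⟨a, ha⟩ := hker g (congrArg Subtype.val h)
      have e1 : t = a := by
        have h3 : (t - a) • Fr.b x = 0 := by rw [sub_smul, ← h1, ← ha, sub_self]
        exact sub_eq_zero.1 ((smul_eq_zero.1 h3).resolve_right (b_ne_zero x))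
      have e2 : t⁻¹ = a := by
        have h3 : (t⁻¹ - a) • Fr.b (neg x) = 0 := by rw [sub_smul, ← h2, ← ha, sub_self]
        exact sub_eq_zero.1 ((smul_eq_zero.1 h3).resolve_right (b_ne_zero _))
      have e3 : t * t = 1 := by
        nth_rw 2 [e1]
        rw [← e2, mul_inv_cancel₀ ht0]
      obtain ⟨m, hm⟩ := hp.odd_of_ne_two hp2
      rw [hm, pow_succ, pow_mul, pow_two, e3, one_pow, one_mul] at htp
      exact ht1 htp
  rw [← hy]
  exact orderOf_dvd_natCard y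

/-- elements of order `p` of a finite field -/
theorem exists_root [Fintype F] {p : ℕ} (hp : p.Prime) (hd : p ∣ Fintype.card F - 1) : ∃ t : F, t ^ p = 1 ∧ t ≠ 1 := by
  classical
  have : Fact p.Prime := ⟨hp⟩
  obtain ⟨t, ht⟩ := exists_prime_orderOf_dvd_card (G := Fˣ) p (by rw [Fintype.card_units]; exact hd)
  refine ⟨t, ?_, fun h => ?_⟩
  · rw [← Units.val_pow_eq_pow_val, ← ht, pow_orderOf_eq_one, Units.val_one]
  · have : t = 1 := Units.ext h
    rw [this, orderOf_one] at ht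
    exact hp.one_lt.ne ht

theorem kerC (M : Model Fr K) (g : M.I) (hg : M.φ g = 1) : ∃ a : F, ∀ v, g.1 v = a • v := by
  have hs : ∀ v, ∃ a : F, g.1 v = a • v := fun v => M.ker v g hg
  obtain ⟨c, hc'⟩ := LinearMap.exists_eq_smul_id_of_forall_notLinearIndependent (R := F)
    (f := (g.1 : V →ₗ[F] V)) (by
      intro v hli
      obtain ⟨a, ha⟩ := hs v
      rw [LinearIndependent.pair_iff] at hli
      have h1 := hli a (-1) (by
        rw [neg_smul, one_smul]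
        change a • v + -(g.1 v) = 0
        rw [ha, add_neg_cancel])
      exact absurd h1.2 (by simp))
  exact ⟨c, fun v => LinearMap.congr_fun hc' v⟩

/-- functions constant on the steps are constant -/
theorem const_of {n : ℕ} {s : Bool} {d : Fin n × Bool → F}
    (h : ∀ (i : Fin n) (hi : (i : ℕ) + 1 < n), d (⟨i + 1, hi⟩, s) = d (i, s)) (i j : Fin n) : d (i, s) = d (j, s) := by
  have key : ∀ (k : ℕ) (hk : k < n) (h0 : 0 < n), d (⟨k, hk⟩, s) = d (⟨0, h0⟩, s) := by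
    intro k
    induction k with
    | zero => intro _ _; rfl
    | succ k ih =>
      intro hk h0
      rw [← ih (by omega) h0]
      exact h ⟨k, by omega⟩ hk
  have h0 : 0 < n := by have := i.2; omega
  rw [show i = ⟨i, i.2⟩ from rfl, show j = ⟨j, j.2⟩ from rfl, key i i.2 h0, key j j.2 h0]

theorem trC {n : ℕ} (hn : 0 < n) (d : Fin n × Bool → F) (h : ∀ i x, d (TypeC.sg i x) = d x) (x : Fin n × Bool) :
    d x = d (neg x) := by
  obtain ⟨i, s⟩ := x
  have h1 : ∀ (s : Bool) (i : Fin n) (hi : (i : ℕ) + 1 < n), d (⟨i + 1, hi⟩, s) = d (i, s) := fun s i hi => by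
    rw [← TypeC.sg_up hi s]
    exact h i _
  have hl : ¬ ((⟨n - 1, by omega⟩ : Fin n) : ℕ) + 1 < n := by simp; omega
  have h2 := h ⟨n - 1, by omega⟩ (⟨n - 1, by omega⟩, s)
  rw [TypeC.sg_last hl] at h2
  change d (i, s) = d (i, !s)
  rw [const_of (h1 s) i ⟨n - 1, by omega⟩, const_of (h1 (!s)) i ⟨n - 1, by omega⟩]
  exact h2.symm

theorem trD {n : ℕ} (d : Fin (n + 2) × Bool → F) (h : ∀ i x, d (TypeD.sg i x) = d x) (x : Fin (n + 2) × Bool) :
    d x = d (neg x) := by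
  obtain ⟨i, s⟩ := x
  have h1 : ∀ (s : Bool) (i : Fin (n + 2)) (hi : (i : ℕ) + 1 < n + 2), d (⟨i + 1, hi⟩, s) = d (i, s) := fun s i hi => by
    rw [← TypeD.sg_up hi s]
    exact h i _
  have hl : ¬ ((⟨n + 1, by omega⟩ : Fin (n + 2)) : ℕ) + 1 < n + 2 := by simp
  have h2 := h ⟨n + 1, by omega⟩ (⟨n + 1, by omega⟩, s)
  rw [TypeD.sg_last hl] at h2
  change d (i, s) = d (i, !s)
  rw [const_of (h1 s) i ⟨n + 1, by omega⟩, const_of (h1 (!s)) i (TypeD.pd n)]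
  exact h2.symm

/-- `V₀` a line: elements of odd order of the torus fixing the frame -/
theorem fix_line (hV : ∀ v, (∀ x, H.h v (Fr.b x) = 0) → v ∈ Fr.V0) (hσ : ∀ t, H.σ t = t) {s : V ≃ₗ[F] V}
    (hmap : ∀ w ∈ Fr.V0, s w ∈ Fr.V0) (hiso : H.IsIso s) {d : V} (hd0 : d ∈ Fr.V0) (hd : H.h d d ≠ 0)
    (hline : ∀ w ∈ Fr.V0, ∃ a : F, w = a • d) {p : ℕ} (hp : p.Prime) (hp2 : p ≠ 2) (hs : s ^ p = 1)
    (hb : ∀ x, s (Fr.b x) = Fr.b x) : s = 1 := by
  obtain ⟨μ, hμ⟩ := hline _ (hmap d hd0)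
  have hd' : d ≠ 0 := by
    rintro rfl
    exact hd (H.zero_left _)
  have h1 : μ * μ = 1 := by
    have h2 := hiso d d
    rw [hμ, H.smul_left, H.smul_right, hσ, ← mul_assoc] at h2
    exact mul_right_cancel₀ hd (h2.trans (one_mul _).symm)
  have h2 : μ ^ p = 1 := by
    have h3 : ∀ m : ℕ, (s ^ m) d = μ ^ m • d := by
      intro m
      induction m with
      | zero => rw [pow_zero, pow_zero, one_smul]; rfl
      | succ m ih =>
        rw [pow_succ]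
        change (s ^ m) (s d) = _
        rw [hμ, map_smul, ih, smul_smul, pow_succ, mul_comm]
    have h4 := h3 p
    rw [hs] at h4
    have h5 : (μ ^ p - 1) • d = 0 := by
      rw [sub_smul, one_smul, ← h4]
      exact sub_self _
    exact sub_eq_zero.1 ((smul_eq_zero.1 h5).resolve_right hd')
  have h3 : μ = 1 := by
    obtain ⟨m, hm⟩ := hp.odd_of_ne_two hp2
    rw [hm, pow_succ, pow_mul, pow_two, h1, one_pow, one_mul] at h2
    exact h2
  refine eq_one_of_fix hV hb fun w hw => ?_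
  obtain ⟨a, rfl⟩ := hline w hw
  rw [map_smul, hμ, h3, one_smul]

theorem hasTM_C (M : Model Fr K) [Finite K] [Fintype F] {r : ℕ} (hA : AmbT Fr r M.I) [Finite V] [Fact r.Prime]
    [CharP F r] {p0 : Fr.Adm} (hp0 : p0.c ≠ 0) (hn : 2 ≤ n) (hσ : ∀ t, H.σ t = t)
    (hT : ∀ s ∈ Tor Fr M.I, ∀ t ∈ Tor Fr M.I, ∀ w ∈ Fr.V0, s (t w) = t (s w))
    (hlast : ∀ p : ℕ, p.Prime → p ≠ 2 → ∀ s ∈ Tor Fr M.I, s ^ p = 1 → (∀ x, s (Fr.b x) = Fr.b x) →
      (∀ v, nn Fr p0 ⟨n - 1, by omega⟩ (s v) = s (nn Fr p0 ⟨n - 1, by omega⟩ v)) → s = 1)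
    (hG : r = 2 → TwC.Gd (Nodes.WittModel.X M)) : HasTM r (Fintype.card F - 1) K := by
  refine ⟨n, CoxeterMatrix.B n, TypeC.A n, TypeC.isCartan n, WittModel.T M, _, WittModel.X M,
    TypeC.finite_W (CoxeterMatrix.B n).toCoxeterSystem, rgdC_model M hA hp0 _, WittModel.G1_eq_top _ (by omega) _,
    ?_, ?_, ?_, fun hr => ?_⟩
  · rintro _ ⟨s, hs, rfl⟩ _ ⟨t, ht, rfl⟩
    rw [← map_mul, ← map_mul]
    congr 1
    exact Subtype.ext (tor_comm_of hA.V0 (Subgroup.mem_subgroupOf.1 hs) (Subgroup.mem_subgroupOf.1 ht)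
        (hT _ (Subgroup.mem_subgroupOf.1 hs) _ (Subgroup.mem_subgroupOf.1 ht)))
  · intro p hp hp2 hd
    exact moved_gen M.φ (kerC M) hA.iso hσ (⟨n - 1, by omega⟩, true)
      (fun i => ⟨nn Fr p0 i, nn_mem hA p0 i⟩) TypeC.sg (fun i => mono_nn hp0 i) (trC (by omega)) hp hp2
      (fun s hs hsp hb hc => hlast p hp hp2 s hs hsp hb (hc _)) hd
  · intro p hp hp2 hd
    obtain ⟨t, ht, ht1⟩ := exists_root hp hd
    have ht0 : t ≠ 0 := by
      rintro rfl
      rw [zero_pow hp.ne_zero] at ht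
      exact zero_ne_one ht
    have hxy : ((⟨0, by omega⟩, true) : Fin n × Bool).1 ≠ ((⟨1, by omega⟩, true) : Fin n × Bool).1 := by
      simp [Fin.ext_iff]
    exact dvd_of_elt M.φ (kerC M) hp hp2 (g := ⟨_, Cfsg.Agent.H519.Dl.WittTor.dX_mem M hA _ _ t⟩)
      (Cfsg.Agent.H519.Dl.WittTor.dX_mem_Tor M hA hxy ht0) (dX_pow hA.V0 hxy ht0 ht) ht ht1 (dX_x hxy ht0)
      (by rw [← hσ t⁻¹, map_inv₀]; exact dX_neg_x hxy ht0)
  · exact fun _ hr' h0 hs => (hG hr).gen _ hr' h0 hs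

end Cfsg.Agent.H848.EP
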