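import Cfsg.Agent.H848.EP.Frame
import Cfsg.Agent.H716.RGDAbMinus

/-!
# S4929 [TM-O]: `HasTM` for the orthogonal groups (helper848)

* `tm_oodd`, `tm_oplus`, `tm_ominus`.
-/

set_option autoImplicit false
set_option linter.unusedSectionVars false

namespace Cfsg.Agent.H848.EP

open Cfsg
open CoxeterSystem Cfsg.Agent.ChevalleyStructure.CoxeterGeom Cfsg.Agent.Tits.Roots Cfsg.Agent.Tits.Core
open Cfsg.Agent.Nodes.Comb Cfsg.Agent.Nodes.Reps Cfsg.Agent.Nodes.WittRoot Cfsg.Agent.Nodes.BNOf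
open Cfsg.Agent.Nodes Cfsg.Agent.Nodes.RGDLib Cfsg.Agent.Nodes.WittAll Cfsg.Agent.Nodes.WittU
open Cfsg.Agent.Nodes.WittInst
open Cfsg.Agent.Nodes.WittRGD (Tor mem_Tor b_ne_zero mono_nn nn)
open Cfsg.Agent.TitsThree Cfsg.Agent.TitsThree.Siegel Cfsg.Agent.TitsThree.SiegelGen
  Cfsg.Agent.TitsThree.WittFrame Cfsg.Agent.TitsThree.WBridge Cfsg.Agent.TitsThree.WittWeyl
  Cfsg.Agent.TitsThree.FrameCN
open Cfsg.Agent.Omega.EH3.Kf Cfsg.Agent.Omega.EH3.Kf.Lev
open Cfsg.Agent.H519.Dl.WittTor (dX dX_x dX_neg_x dX_pow)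
open Cfsg.Agent.H892.EP (HasTM)
open Cfsg.Agent.H716.RGDAb (tor_comm_of eq_one_of_fix finrank_V0 comm_V0_of_line e0 e1 exists_rot)
open QuadraticMap
open Cfsg.Agent.LieClassical Cfsg.Agent.LieClassical.OrthCore Cfsg.Agent.LieClassical.OrthTrans
open Cfsg.Agent.LieClassical.OrthSimple Cfsg.Agent.LieClassical.OrthFinite
open Cfsg.Agent.LieClassical.OrthForms
open Cfsg.Agent.TitsThree.KSideO Cfsg.Agent.TitsThree.StdData
open Cfsg.Agent.H396.CommTab (exists_d)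

theorem tm_oodd {F : Type} [Field F] [Fintype F] {r : ℕ} [Fact r.Prime] [CharP F r] {m : ℕ} (hm : 3 ≤ m)
    (ho : Odd (Fintype.card F)) : HasTM r (Fintype.card F - 1) (POmega F (quadFormOdd m F)) := by
  have h2 : (2 : F) ≠ 0 := by
    intro h
    have h3 : CharP F 2 := CharTwo.of_one_ne_zero_of_two_eq_zero one_ne_zero h
    obtain ⟨k, hk⟩ := FiniteField.card F 2
    rw [hk.2] at ho
    exact (Nat.not_odd_iff_even.2 ((Nat.even_pow.2 ⟨even_two, k.ne_zero⟩))) ho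
  rw [← coe_oddForm]
  have hG : Good (oddForm m F) := by
    apply good_of_finite (nondeg_oddForm m F h2)
    rw [Module.finrank_fintype_fun_eq_card, Fintype.card_sum, Fintype.card_sum, Fintype.card_fin,
      Fintype.card_unit]
    omega
  have hp : ((embOdd m F).ngt ⟨1, -1 ^ 2, rfl⟩).c ≠ 0 := by
    change (1 : F)⁻¹ * (-1 ^ 2) ≠ 0
    simp
  have hA : AmbT (toFrame (wodd m F)) r (E (oddForm m F)) := AmbT.of_amb (amb_O_of_two _ h2) r
  have hr2 : r ≠ 2 := by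
    rintro rfl
    exact h2 (CharP.cast_eq_zero F 2)
  -- the anisotropic part
  have hdim := finrank_V0 (Fr := toFrame (wodd m F))
  rw [Module.finrank_fintype_fun_eq_card, Fintype.card_sum, Fintype.card_sum, Fintype.card_fin,
      Fintype.card_unit] at hdim
  have h1 : Module.finrank F ↥(toFrame (wodd m F)).V0 ≤ 1 := by omega
  obtain ⟨d, hd, hd1⟩ : ∃ d, (HO (oddForm m F)).h d d ≠ 0 ∧ ∀ a : F, ∃ c, (toFrame (wodd m F)).ok (a • d) c := by
    refine exists_d (wodd m F) h2 (d := ((embOdd m F).ngt ⟨1, -1 ^ 2, rfl⟩).w)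
      ((embOdd m F).ngt ⟨1, -1 ^ 2, rfl⟩).ok.1 ?_
    intro h0
    apply hp
    have h3 : ((embOdd m F).ngt ⟨1, -1 ^ 2, rfl⟩).c = -(oddForm m F) ((embOdd m F).ngt ⟨1, -1 ^ 2, rfl⟩).w :=
      ((embOdd m F).ngt ⟨1, -1 ^ 2, rfl⟩).ok.2
    rw [h3, h0, _root_.neg_zero]
  have hdV : d ∈ (toFrame (wodd m F)).V0 := by
    obtain ⟨c, hc⟩ := hd1 1
    rw [one_smul] at hc
    exact (toFrame (wodd m F)).ok_mem hc
  have hd0 : d ≠ 0 := by
    rintro rfl
    exact hd ((HO (oddForm m F)).zero_left _)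
  have hline : ∀ w ∈ (toFrame (wodd m F)).V0, ∃ a : F, w = a • d := by
    obtain ⟨v, hv⟩ := finrank_le_one_iff.1 h1
    obtain ⟨c, hc⟩ := hv ⟨d, hdV⟩
    have hc' : d = c • v.1 := (congrArg Subtype.val hc).symm
    have hc0 : c ≠ 0 := by
      rintro rfl
      exact hd0 (by rw [hc', zero_smul])
    intro w hw
    obtain ⟨e, he⟩ := hv ⟨w, hw⟩
    have he' : w = e • v.1 := (congrArg Subtype.val he).symm
    exact ⟨e * c⁻¹, by rw [he', hc', smul_smul, mul_assoc, inv_mul_cancel₀ hc0, mul_one]⟩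
  have hmap : ∀ g ∈ Tor (toFrame (wodd m F)) (E (oddForm m F)),
      ∀ w ∈ (toFrame (wodd m F)).V0, g w ∈ (toFrame (wodd m F)).V0 :=
    fun g hg w hw => hA.map_V0 hg.1 hg.2 (ρ := id) (fun _ => rfl) hw
  exact hasTM_C (model (wodd m F) hG ⟨_, hp⟩) hA hp (by omega) (fun _ => rfl)
    (fun s hs t ht => comm_V0_of_line hA ⟨d, hline⟩ hs ht)
    (fun p hp hp2 s hs hsp hb _ => fix_line hA.V0 (fun _ => rfl) (hmap s hs) (hA.iso s hs.1) hdV hd hline hp hp2 hsp hb)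
    (fun h => absurd h hr2)

theorem tm_oplus {F : Type} [Field F] [Fintype F] {r : ℕ} [Fact r.Prime] [CharP F r] {m : ℕ} (hm : 4 ≤ m) :
    HasTM r (Fintype.card F - 1) (POmega F (quadFormPlus m F)) := by
  obtain ⟨n, rfl⟩ : ∃ n, m = n + 3 := ⟨m - 3, by omega⟩
  rw [← coe_plusForm]
  have hG : Good (plusForm (n + 3) F) := by
    apply good_of_finite (nondeg_plusForm (n + 3) F)
    rw [Module.finrank_fintype_fun_eq_card, Fintype.card_sum, Fintype.card_fin]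
    omega
  have hc : ∀ i j : Fin (n + 1 + 2), Nodes.TypeD.M (n + 1) i j ≤ 3 := by
    intro i j
    show (if i = j then 1 else if Nodes.TypeD.Adj i j ∨ Nodes.TypeD.Adj j i then 3 else 2) ≤ 3
    split_ifs <;> norm_num
  have hA := amb_plus (F := F) (n + 3)
  have R := rgdD_model (wplus (n + 3) F) hG (amb_plus _) (adm_plus _) (p := r)
    (TypeD.M (n + 1)).toCoxeterSystem
  have hker : ∀ g : E (plusForm (n + 3) F), toPOmega hG g = 1 → ∃ a : F, ∀ v, g.1 v = a • v :=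
    fun g hg => scalar_of_center hG (center_of_toPOmega hG hg)
  have hbot : ∀ w ∈ (toFrame (wplus (n + 3) F)).V0, w = 0 := fun w hw => (Submodule.mem_bot F).1 hw
  refine ⟨n + 3, TypeD.M (n + 1), TypeD.A (n + 1), TypeD.isCartan (n + 1), _, _, _,
    TypeD.finite_W (TypeD.M (n + 1)).toCoxeterSystem, R,
    G1D_eq_top (wplus (n + 3) F) (toPOmega hG) (toPOmega_surjective hG) (adm_plus _) _, ?_, ?_, ?_, fun _ => ?_⟩
  · rintro _ ⟨s, hs, rfl⟩ _ ⟨t, ht, rfl⟩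
    rw [← map_mul, ← map_mul]
    congr 1
    refine Subtype.ext (tor_comm_of hA.V0 (Subgroup.mem_subgroupOf.1 hs)
      (Subgroup.mem_subgroupOf.1 ht) fun w hw => ?_)
    rw [hbot w hw, map_zero, map_zero, map_zero]
  · intro p hp hp2 hd
    exact moved_gen (toPOmega hG) hker hA.iso (fun _ => rfl) (⟨0, by omega⟩, true)
      (fun i => ⟨WittRGDD.nn (toFrame (wplus (n + 3) F)) i, WittRGDD.nn_mem hA i⟩) TypeD.sg
      (fun i => WittRGDD.mono_nn i) trD hp hp2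
      (fun s hs _ hb _ => eq_one_of_fix hA.V0 hb fun w hw => by rw [hbot w hw, map_zero]) hd
  · intro p hp hp2 hd
    obtain ⟨t, ht, ht1⟩ := exists_root hp hd
    have ht0 : t ≠ 0 := by
      rintro rfl
      rw [zero_pow hp.ne_zero] at ht
      exact zero_ne_one ht
    have hxy : ((⟨0, by omega⟩, true) : Fin (n + 1 + 2) × Bool).1 ≠ ((⟨1, by omega⟩, true) : Fin (n + 1 + 2) × Bool).1 := by
      simp
    exact dvd_of_elt (toPOmega hG) hker hp hp2 (g := ⟨_, Cfsg.Agent.H314.RatB.OPlus.dX_mem hA _ _ t⟩)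
      (Cfsg.Agent.H314.RatB.OPlus.dX_mem_Tor hA hxy ht0) (dX_pow hA.V0 hxy ht0 ht) ht ht1 (dX_x hxy ht0)
      (dX_neg_x hxy ht0)
  · have : Finite (TypeD.M (n + 1)).Group := TypeD.finite_W (TypeD.M (n + 1)).toCoxeterSystem
    exact comm_of_sl R (Cfsg.Agent.KFacts.RgdFiltWitt.sl_of_ne (fun i j h => by have := hc i j; omega)
      (fun i j h => by have := hc i j; omega))

end Cfsg.Agent.H848.EP
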