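import Cfsg.Agent.H848.EP.Frame
import Cfsg.Agent.H716.RGDAbMinus

/-!
# S4929 [TM-O]: `HasTM` for `PΩ⁻` (helper848)

* `exists_rot2` : the torus of `PΩ⁻` acts on the anisotropic plane by rotations, characteristic 2;
* `tm_ominus`.
-/

set_option autoImplicit false
set_option linter.unusedSectionVars false

namespace Cfsg.Agent.H848.EP

open Cfsg
open CoxeterSystem Cfsg.Agent.ChevalleyStructure.CoxeterGeom Cfsg.Agent.Tits.Roots Cfsg.Agent.Tits.Core
open Cfsg.Agent.Nodes.Comb Cfsg.Agent.Nodes.Reps Cfsg.Agent.Nodes.WittRoot Cfsg.Agent.Nodes.BNOf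
open Cfsg.Agent.Nodes Cfsg.Agent.Nodes.RGDLib Cfsg.Agent.Nodes.WittAll Cfsg.Agent.Nodes.WittU
open Cfsg.Agent.Nodes.WittInst
open Cfsg.Agent.Nodes.WittRGD (Tor mem_Tor b_ne_zero mono_nn nn)
open Cfsg.Agent.TitsThree Cfsg.Agent.TitsThree.Siegel Cfsg.Agent.TitsThree.SiegelGen
  Cfsg.Agent.TitsThree.WittFrame Cfsg.Agent.TitsThree.WBridge Cfsg.Agent.TitsThree.WittWeyl
  Cfsg.Agent.TitsThree.FrameCN
open Cfsg.Agent.Omega.EH3.Kf Cfsg.Agent.Omega.EH3.Kf.Lev
open Cfsg.Agent.H892.EP (HasTM)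
open Cfsg.Agent.H716.RGDAb (tor_comm_of eq_one_of_fix finrank_V0 comm_V0_of_line e0 e1 exists_rot)
open QuadraticMap
open Cfsg.Agent.LieClassical Cfsg.Agent.LieClassical.OrthCore Cfsg.Agent.LieClassical.OrthTrans
open Cfsg.Agent.LieClassical.OrthSimple Cfsg.Agent.LieClassical.OrthFinite
open Cfsg.Agent.LieClassical.OrthForms
open Cfsg.Agent.TitsThree.KSideO Cfsg.Agent.TitsThree.StdData
open Cfsg.Agent.H396.CommTab (exists_d)

variable {F : Type*} [Field F] {m : ℕ} {a b : F}

/-- isometries of the plane with form `z² + a z w + b w²`, characteristic 2 -/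
theorem rot_or_refl (h2 : (2 : F) = 0) (ha : a ≠ 0) {x y z w : F} (h1 : x ^ 2 + a * x * z + b * z ^ 2 = 1)
    (h3 : y ^ 2 + a * y * w + b * w ^ 2 = b) (hB : 2 * x * y + a * (x * w + z * y) + 2 * b * z * w = a) :
    (y = -(b * z) ∧ w = x + a * z) ∨ (y = a * x + b * z ∧ w = x) := by
  have hdet : x * w + z * y = 1 := by
    apply mul_left_cancel₀ ha
    linear_combination hB - (x * y + b * z * w) * h2
  -- the coefficient
  obtain ⟨k, hkw, hky⟩ : ∃ k : F, w = x + a * z + k * z ∧ y = b * z + k * x := by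
    refine ⟨(x + a * z) * y + b * z * w, ?_, ?_⟩
    · linear_combination -(x + a * z) * hdet + w * h1 + (w - b * z ^ 2 * w - x - a * z) * h2
    · linear_combination -(b * z) * hdet - y * h1 + (b * z ^ 2 * y - b * z) * h2
  have hk : k * (k + a) = 0 := by
    rw [hkw, hky] at h3
    linear_combination h3 - (b + a * k + k ^ 2) * h1 -
      (a ^ 2 * b * z ^ 2 + a * b * x * z + 2 * k * b * x * z + a * b * k * z ^ 2) * h2
  rcases mul_eq_zero.1 hk with h | h
  · left
    rw [h] at hkw hky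
    constructor
    · linear_combination hky + b * z * h2
    · linear_combination hkw
  · right
    constructor
    · linear_combination hky + x * h - a * x * h2
    · linear_combination hkw + z * h

/-- the torus acts on the anisotropic plane by rotations, characteristic 2 -/
theorem exists_rot2 [Fintype F] (hab : ∀ z₁ z₂ : F, z₁ ^ 2 + a * z₁ * z₂ + b * z₂ ^ 2 = 0 → z₁ = 0 ∧ z₂ = 0)
    (h2 : (2 : F) = 0) (ha : a ≠ 0) (hm : 2 ≤ m) (hG : Good (minusForm m F a b))
    (hV : ∀ v, (∀ x, (HO (minusForm m F a b)).h v ((toFrame (wminus m F a b hab)).b x) = 0) →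
      v ∈ (toFrame (wminus m F a b hab)).V0)
    (hV0 : ∀ g ∈ Tor (toFrame (wminus m F a b hab)) (E (minusForm m F a b)),
      ∀ w ∈ (toFrame (wminus m F a b hab)).V0, g w ∈ (toFrame (wminus m F a b hab)).V0)
    {g : ((Fin m ⊕ Fin m) ⊕ Fin 2 → F) ≃ₗ[F] ((Fin m ⊕ Fin m) ⊕ Fin 2 → F)}
    (hg : g ∈ Tor (toFrame (wminus m F a b hab)) (E (minusForm m F a b))) :
    ∃ x z : F, g (e0 m F) = x • e0 m F + z • e1 m F ∧
      g (e1 m F) = (-(b * z)) • e0 m F + (x + a * z) • e1 m F := by
  classical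
  have hgE := hg.1
  have hiso : ∀ u v, polar (minusForm m F a b) (g u) (g v) = polar (minusForm m F a b) u v :=
    fun u v => polar_map (E_le_O hgE) u v
  have hQ : ∀ u, minusForm m F a b (g u) = minusForm m F a b u := fun u => mem_O.1 (E_le_O hgE) u
  -- the plane
  have hm0 : e0 m F ∈ (toFrame (wminus m F a b hab)).V0 := fun j => by simp [e0]
  have hm1 : e1 m F ∈ (toFrame (wminus m F a b hab)).V0 := fun j => by simp [e1]
  have h0 : ∀ j, g (e0 m F) (Sum.inl j) = 0 := hV0 g hg _ hm0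
  have h1 : ∀ j, g (e1 m F) (Sum.inl j) = 0 := hV0 g hg _ hm1
  set x := g (e0 m F) (Sum.inr 0) with hx
  set z := g (e0 m F) (Sum.inr 1) with hz
  set y := g (e1 m F) (Sum.inr 0) with hy
  set w := g (e1 m F) (Sum.inr 1) with hw
  have e0' : g (e0 m F) = x • e0 m F + z • e1 m F := by
    funext j
    rcases j with j | j
    · rw [h0]; simp [e0, e1]
    · fin_cases j
      · simp [e0, e1, hx]
      · simp [e0, e1, hz]
  have e1' : g (e1 m F) = y • e0 m F + w • e1 m F := by
    funext j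
    rcases j with j | j
    · rw [h1]; simp [e0, e1]
    · fin_cases j
      · simp [e0, e1, hy]
      · simp [e0, e1, hw]
  -- the form
  have hq : x ^ 2 + a * x * z + b * z ^ 2 = 1 := by
    have h3 := hQ (e0 m F)
    rw [coe_minusForm, quadFormMinus_apply, quadFormMinus_apply] at h3
    simp only [h0, e0', Pi.add_apply, Pi.smul_apply, smul_eq_mul] at h3
    simp [e0, e1] at h3
    exact h3
  have hq' : y ^ 2 + a * y * w + b * w ^ 2 = b := by
    have h3 := hQ (e1 m F)
    rw [coe_minusForm, quadFormMinus_apply, quadFormMinus_apply] at h3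
    simp only [h1, e1', Pi.add_apply, Pi.smul_apply, smul_eq_mul] at h3
    simp [e0, e1] at h3
    exact h3
  have hB : 2 * x * y + a * (x * w + z * y) + 2 * b * z * w = a := by
    have h3 := hiso (e0 m F) (e1 m F)
    rw [e0', e1', polar_minusForm, polar_minusForm] at h3
    simp [e0, e1] at h3
    linear_combination h3
  rcases rot_or_refl h2 ha hq hq' hB with ⟨h4, h5⟩ | ⟨h4, h5⟩
  · exact ⟨x, z, e0', by rw [← h4, ← h5]; exact e1'⟩
  exfalso
  -- the square fixes `V₀`
  have hch : CharP F 2 := CharTwo.of_one_ne_zero_of_two_eq_zero one_ne_zero h2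
  have g0 : g (g (e0 m F)) = e0 m F := by
    rw [e0', map_add, map_smul, map_smul, e0', e1', h4, h5, smul_add, smul_add, smul_smul, smul_smul, smul_smul,
      smul_smul]
    have k1 : x * x + z * (a * x + b * z) = 1 := by linear_combination hq
    have k2 : x * z + z * x = 0 := by linear_combination x * z * h2
    have : (x * x) • e0 m F + (x * z) • e1 m F + ((z * (a * x + b * z)) • e0 m F + (z * x) • e1 m F) =
        (x * x + z * (a * x + b * z)) • e0 m F + (x * z + z * x) • e1 m F := by module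
    rw [this, k1, k2, one_smul, zero_smul, add_zero]
  have g1 : g (g (e1 m F)) = e1 m F := by
    rw [e1', map_add, map_smul, map_smul, e0', e1', h4, h5, smul_add, smul_add, smul_smul, smul_smul, smul_smul,
      smul_smul]
    have k1 : (a * x + b * z) * x + x * (a * x + b * z) = 0 := by linear_combination (a * x + b * z) * x * h2
    have k2 : (a * x + b * z) * z + x * x = 1 := by linear_combination hq
    have : ((a * x + b * z) * x) • e0 m F + ((a * x + b * z) * z) • e1 m F +
        ((x * (a * x + b * z)) • e0 m F + (x * x) • e1 m F) =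
        ((a * x + b * z) * x + x * (a * x + b * z)) • e0 m F + ((a * x + b * z) * z + x * x) • e1 m F := by module
    rw [this, k1, k2, one_smul, zero_smul, zero_add]
  have hwe : ∀ v ∈ (toFrame (wminus m F a b hab)).V0, v = v (Sum.inr 0) • e0 m F + v (Sum.inr 1) • e1 m F := by
    intro v hv
    have hv' : ∀ j, v (Sum.inl j) = 0 := hv
    funext j
    rcases j with j | j
    · rw [hv']; simp [e0, e1]
    · fin_cases j
      · simp [e0, e1]
      · simp [e0, e1]
  have gg : ∀ v ∈ (toFrame (wminus m F a b hab)).V0, (g * g) v = v := by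
    intro v hv
    change g (g v) = v
    rw [hwe v hv]
    simp only [map_add, map_smul]
    rw [g0, g1]
  have ggp : ∀ (j : ℕ), ∀ v ∈ (toFrame (wminus m F a b hab)).V0, ((g * g) ^ j) v = v := by
    intro j
    induction j with
    | zero => intro v _; rw [pow_zero]; rfl
    | succ j ih =>
      intro v hv
      rw [pow_succ]
      change ((g * g) ^ j) ((g * g) v) = v
      rw [gg v hv, ih v hv]
  obtain ⟨j, hj⟩ : ∃ j, Fintype.card F - 1 = 2 * j + 1 := by
    obtain ⟨k, -, hk⟩ := FiniteField.card F 2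
    have h6 : Even (Fintype.card F) := by
      rw [hk]
      exact Nat.even_pow.2 ⟨even_two, k.ne_zero⟩
    obtain ⟨i, hi⟩ := h6
    have h7 := Fintype.card_pos (α := F)
    exact ⟨i - 1, by omega⟩
  have hkb : ∀ x, (g ^ (Fintype.card F - 1)) ((toFrame (wminus m F a b hab)).b x) = (toFrame (wminus m F a b hab)).b x := by
    intro x
    obtain ⟨l, hl, e⟩ := hg.2 x
    rw [id] at e
    have h6 : ∀ k : ℕ, (g ^ k) ((toFrame (wminus m F a b hab)).b x) = l ^ k • (toFrame (wminus m F a b hab)).b x := by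
      intro k
      induction k with
      | zero => rw [pow_zero, pow_zero, one_smul]; rfl
      | succ k ih =>
        rw [pow_succ]
        change (g ^ k) (g _) = _
        rw [e, map_smul, ih, smul_smul, pow_succ, mul_comm]
    rw [h6, FiniteField.pow_card_sub_one_eq_one l hl, one_smul]
  have hk2 : (g ^ (Fintype.card F - 1)) ^ 2 = 1 := by
    refine eq_one_of_fix hV (fun x => ?_) fun v hv => ?_
    · rw [pow_two]
      change (g ^ (Fintype.card F - 1)) ((g ^ (Fintype.card F - 1)) _) = _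
      rw [hkb, hkb]
    · rw [← pow_mul, mul_comm, pow_mul, pow_two]
      exact ggp _ v hv
  have hk1 := fixp_minus a b hab h2 hm hG (pow_mem hgE _) hk2 hkb
  rw [hj, pow_succ, pow_mul, pow_two] at hk1
  have k0 : g (e0 m F) = e0 m F := by
    have h6 : ((g * g) ^ j * g) (e0 m F) = e0 m F := by rw [hk1]; rfl
    change ((g * g) ^ j) (g (e0 m F)) = e0 m F at h6
    rwa [ggp j _ (hV0 g hg _ hm0)] at h6
  have k1 : g (e1 m F) = e1 m F := by
    have h6 : ((g * g) ^ j * g) (e1 m F) = e1 m F := by rw [hk1]; rfl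
    change ((g * g) ^ j) (g (e1 m F)) = e1 m F at h6
    rwa [ggp j _ (hV0 g hg _ hm1)] at h6
  have x1 : x = 1 := by rw [hx, k0]; simp [e0]
  have z0 : z = 0 := by rw [hz, k0]; simp [e0]
  have y0 : y = 0 := by rw [hy, k1]; simp [e1]
  rw [x1, z0, y0] at h4
  apply ha
  linear_combination -h4

/-- `hlast` for `PΩ⁻` -/
theorem fix_minus (hab : ∀ z₁ z₂ : F, z₁ ^ 2 + a * z₁ * z₂ + b * z₂ ^ 2 = 0 → z₁ = 0 ∧ z₂ = 0)
    (hm : 0 < m) (hV : ∀ v, (∀ x, (HO (minusForm m F a b)).h v ((toFrame (wminus m F a b hab)).b x) = 0) →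
      v ∈ (toFrame (wminus m F a b hab)).V0)
    (hV0 : ∀ g ∈ Tor (toFrame (wminus m F a b hab)) (E (minusForm m F a b)),
      ∀ w ∈ (toFrame (wminus m F a b hab)).V0, g w ∈ (toFrame (wminus m F a b hab)).V0)
    (ha : (2 : F) = 0 → a ≠ 0) {s : ((Fin m ⊕ Fin m) ⊕ Fin 2 → F) ≃ₗ[F] ((Fin m ⊕ Fin m) ⊕ Fin 2 → F)}
    (hs : s ∈ Tor (toFrame (wminus m F a b hab)) (E (minusForm m F a b))) {x z : F}
    (hs0 : s (e0 m F) = x • e0 m F + z • e1 m F)
    (hs1 : s (e1 m F) = (-(b * z)) • e0 m F + (x + a * z) • e1 m F) {p : ℕ} (hp : p.Prime) (hp2 : p ≠ 2)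
    (hsp : s ^ p = 1) (hb : ∀ x, s ((toFrame (wminus m F a b hab)).b x) = (toFrame (wminus m F a b hab)).b x)
    (hc : ∀ v, nn (toFrame (wminus m F a b hab)) ((embMinus m F a b hab).ngt ⟨(1, 0), -nf a b (1, 0), rfl⟩)
      ⟨m - 1, by omega⟩ (s v) = s (nn (toFrame (wminus m F a b hab))
      ((embMinus m F a b hab).ngt ⟨(1, 0), -nf a b (1, 0), rfl⟩) ⟨m - 1, by omega⟩ v)) : s = 1 := by
  classical
  set Fr := toFrame (wminus m F a b hab) with hFr
  set p0 := (embMinus m F a b hab).ngt ⟨(1, 0), -nf a b (1, 0), rfl⟩ with hp0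
  have hpc : p0.c ≠ 0 := by
    change (1 : F)⁻¹ * (-nf a b (1, 0)) ≠ 0
    simp [nf]
  have hw : p0.w = e0 m F := by
    funext j
    rcases j with j | j
    · change (0 : F) = _
      simp [e0]
    · fin_cases j
      · change (1 : F) = _
        simp [e0]
      · change (0 : F) = _
        simp [e0]
  have hm0 : e0 m F ∈ Fr.V0 := fun j => by simp [e0]
  have hm1 : e1 m F ∈ Fr.V0 := fun j => by simp [e1]
  have hQ : ∀ u, minusForm m F a b (s u) = minusForm m F a b u := fun u => mem_O.1 (E_le_O hs.1) u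
  -- a vector not orthogonal to `e0`
  obtain ⟨v, hv, hvw⟩ : ∃ v ∈ Fr.V0, (HO (minusForm m F a b)).h v (e0 m F) ≠ 0 := by
    by_cases h2 : (2 : F) = 0
    · refine ⟨e1 m F, hm1, ?_⟩
      rw [HO_h, polar_minusForm]
      simp [e0, e1]
      exact ha h2
    · refine ⟨e0 m F, hm0, ?_⟩
      rw [HO_h, polar_minusForm]
      simp [e0]
      exact h2
  -- `s` fixes the line of `e0`
  have hl : ¬ ((⟨m - 1, by omega⟩ : Fin m) : ℕ) + 1 < m := by simp; omega
  have hnn : ∀ u ∈ Fr.V0, nn Fr p0 ⟨m - 1, by omega⟩ u =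
      u + ((HO (minusForm m F a b)).ε⁻¹ * p0.c⁻¹ * (HO (minusForm m F a b)).h u (e0 m F)) • e0 m F := by
    intro u hu
    unfold WittRGD.nn
    rw [if_neg hl, nZ_apply_V0 Fr _ p0 hpc hu, hw]
  have h1 := hc v
  rw [hnn _ (hV0 s hs v hv), hnn v hv, map_add, map_smul] at h1
  have h2 := add_left_cancel h1
  set c1 := (HO (minusForm m F a b)).ε⁻¹ * p0.c⁻¹ * (HO (minusForm m F a b)).h v (e0 m F) with hc1
  set c2 := (HO (minusForm m F a b)).ε⁻¹ * p0.c⁻¹ * (HO (minusForm m F a b)).h (s v) (e0 m F) with hc2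
  have hc10 : c1 ≠ 0 := mul_ne_zero (mul_ne_zero (inv_ne_zero (HO (minusForm m F a b)).ε_ne) (inv_ne_zero hpc)) hvw
  rw [hs0] at h2
  have hz : z = 0 := by
    have h3 := congrFun h2 (Sum.inr 1)
    simp [e0, e1] at h3
    exact h3.resolve_left hc10
  rw [hz, zero_smul, add_zero] at hs0
  rw [hz, mul_zero, neg_zero, zero_smul, zero_add, mul_zero, add_zero] at hs1
  have hx2 : x * x = 1 := by
    have h3 := hQ (e0 m F)
    rw [hs0, QuadraticMap.map_smul] at h3
    have h4 : minusForm m F a b (e0 m F) = 1 := by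
      rw [coe_minusForm, quadFormMinus_apply]
      simp [e0]
    rw [h4, smul_eq_mul, mul_one] at h3
    exact h3
  have hxp : x ^ p = 1 := by
    have h3 : ∀ k : ℕ, (s ^ k) (e0 m F) = x ^ k • e0 m F := by
      intro k
      induction k with
      | zero => rw [pow_zero, pow_zero, one_smul]; rfl
      | succ k ih =>
        rw [pow_succ]
        change (s ^ k) (s (e0 m F)) = _
        rw [hs0, map_smul, ih, smul_smul, pow_succ, mul_comm]
    have h4 := h3 p
    rw [hsp] at h4
    have h5 := congrFun h4 (Sum.inr 0)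
    simp [e0] at h5
    exact h5.symm
  have hx1 : x = 1 := by
    obtain ⟨k, hk⟩ := hp.odd_of_ne_two hp2
    rw [hk, pow_succ, pow_mul, pow_two, hx2, one_pow, one_mul] at hxp
    exact hxp
  rw [hx1, one_smul] at hs0 hs1
  refine eq_one_of_fix hV hb fun w hw => ?_
  have hw' : ∀ j, w (Sum.inl j) = 0 := hw
  have hwe : w = w (Sum.inr 0) • e0 m F + w (Sum.inr 1) • e1 m F := by
    funext j
    rcases j with j | j
    · rw [hw']; simp [e0, e1]
    · fin_cases j
      · simp [e0, e1]
      · simp [e0, e1]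
  rw [hwe, map_add, map_smul, map_smul, hs0, hs1]

theorem tm_ominus {F : Type} [Field F] [Fintype F] {r : ℕ} [Fact r.Prime] [CharP F r] {m : ℕ} (hm : 4 ≤ m) (a b : F)
    (hab : ∀ z₁ z₂ : F, z₁ ^ 2 + a * z₁ * z₂ + b * z₂ ^ 2 = 0 → z₁ = 0 ∧ z₂ = 0) :
    HasTM r (Fintype.card F - 1) (POmega F (quadFormMinus (m - 1) F a b)) := by
  obtain ⟨n, rfl⟩ : ∃ n, m = n + 1 := ⟨m - 1, by omega⟩
  rw [Nat.add_sub_cancel]
  have hn : 2 ≤ n := by omega
  rw [← coe_minusForm]
  have hG : Good (minusForm n F a b) := by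
    apply good_of_finite (nondeg_minusForm n F a b hab)
    rw [Module.finrank_fintype_fun_eq_card, Fintype.card_sum, Fintype.card_sum, Fintype.card_fin,
      Fintype.card_fin]
    omega
  have hp : ((embMinus n F a b hab).ngt ⟨(1, 0), -nf a b (1, 0), rfl⟩).c ≠ 0 := by
    change (1 : F)⁻¹ * (-nf a b (1, 0)) ≠ 0
    simp [nf]
  have hA : AmbT (toFrame (wminus n F a b hab)) r (E (minusForm n F a b)) := by
    by_cases h2 : (2 : F) = 0
    · have h3 : CharP F 2 := CharTwo.of_one_ne_zero_of_two_eq_zero one_ne_zero h2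
      have hp2 : r = 2 := CharP.eq F ‹CharP F r› h3
      subst hp2
      exact ambT_O _ fun g hg hg2 hb => fixp_minus a b hab h2 hn hG hg hg2 hb
    · exact AmbT.of_amb (amb_O_of_two _ h2) r
  have hV0 : ∀ g ∈ Tor (toFrame (wminus n F a b hab)) (E (minusForm n F a b)),
      ∀ w ∈ (toFrame (wminus n F a b hab)).V0, g w ∈ (toFrame (wminus n F a b hab)).V0 :=
    fun g hg w hw => hA.map_V0 hg.1 hg.2 (ρ := id) (fun _ => rfl) hw
  have ha : (2 : F) = 0 → a ≠ 0 := by
    rintro h2 rfl
    have h3 : CharP F 2 := CharTwo.of_one_ne_zero_of_two_eq_zero one_ne_zero h2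
    obtain ⟨c, hc⟩ := FiniteField.isSquare_of_char_two (F := F) (ringChar.eq_iff.2 h3) b
    have h4 := hab c 1 (by rw [hc]; linear_combination (c * c) * h2)
    exact one_ne_zero h4.2
  have hrot : ∀ g ∈ Tor (toFrame (wminus n F a b hab)) (E (minusForm n F a b)),
      ∃ x z : F, g (e0 n F) = x • e0 n F + z • e1 n F ∧
      g (e1 n F) = (-(b * z)) • e0 n F + (x + a * z) • e1 n F := by
    intro g hg
    by_cases h2 : (2 : F) = 0
    · exact exists_rot2 hab h2 (ha h2) hn hG hA.V0 hV0 hg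
    · exact exists_rot hab h2 hG hV0 hg
  refine hasTM_C (model (wminus n F a b hab) hG ⟨_, hp⟩) hA hp hn (fun _ => rfl) (fun s hs t ht w hw => ?_)
    (fun p hp hp2 s hs hsp hb hc => ?_) (fun hr => ?_)
  · obtain ⟨x, z, hs0, hs1⟩ := hrot s hs
    obtain ⟨x', z', ht0, ht1⟩ := hrot t ht
    have hw' : ∀ j, w (Sum.inl j) = 0 := hw
    have hwe : w = w (Sum.inr 0) • e0 n F + w (Sum.inr 1) • e1 n F := by
      funext j
      rcases j with j | j
      · rw [hw']; simp [e0, e1]
      · fin_cases j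
        · simp [e0, e1]
        · simp [e0, e1]
    have c0 : s (t (e0 n F)) = t (s (e0 n F)) := by
      rw [ht0, hs0, map_add, map_smul, map_smul, map_add, map_smul, map_smul, ht0, ht1, hs0, hs1]
      simp only [smul_add, smul_smul]
      module
    have c1 : s (t (e1 n F)) = t (s (e1 n F)) := by
      rw [ht1, hs1, map_add, map_smul, map_smul, map_add, map_smul, map_smul, ht0, ht1, hs0, hs1]
      simp only [smul_add, smul_smul]
      module
    rw [hwe]
    simp only [map_add, map_smul]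
    rw [c0, c1]
  · obtain ⟨x, z, hs0, hs1⟩ := hrot s hs
    exact fix_minus hab (by omega) hA.V0 hV0 ha hs hs0 hs1 hp hp2 hsp hb hc
  · subst hr
    exact TwWitt.gd_of_surj (model (wminus n F a b hab) hG ⟨_, hp⟩) (OMinusBd.exists_h_minus a b hab)

end Cfsg.Agent.H848.EP
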